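import Cfsg.Agent.H380.RC.Rules

/-!
# S3509: the general orbit rule (R3+) and the rule (Y) for elements of any order (helper380)

`U` a finite nilpotent subgroup, `B` a finite abelian subgroup normalising `U`, of order prime to `|U|`.

* `generic_point` : every orbit `U ω` contains a point `u ω` such that an element of `B` which fixes `u ω` fixes all the points
  of the orbit;
* `ruleY_set` : `X ⊆ B` (the members), `y ∈ B` fixes all the points which are moved by all the members; then `[U, y]` fixes all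
  these points;
* `ruleY` : members `x i`, `y`, of orders prime to `|U|`; `ruleY_reg` : members = nontrivial powers of one element `s`.
-/

set_option autoImplicit false

namespace Cfsg.Agent.H380.RG

open MulAction Subgroup Cfsg.Agent.H380.RC

section generic

variable {G Ω : Type*} [Group G] [MulAction G Ω]

/-- the stabiliser of the set `U ω` -/
def stO (U : Subgroup G) (ω : Ω) : Subgroup G where
  carrier := {g | ∀ d : Ω, d ∈ orbit U ω ↔ g • d ∈ orbit U ω}
  one_mem' := fun d => by rw [one_smul]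
  mul_mem' := fun {a b} ha hb d => by rw [hb, ha, mul_smul]
  inv_mem' := fun {a} ha d => by rw [ha (a⁻¹ • d), smul_inv_smul]

theorem mem_stO {U : Subgroup G} {ω : Ω} {g : G} : g ∈ stO U ω ↔ ∀ d : Ω, d ∈ orbit U ω ↔ g • d ∈ orbit U ω := Iff.rfl

/-- the action on the orbit -/
def pO (U : Subgroup G) (ω : Ω) : stO U ω →* Equiv.Perm (orbit U ω) where
  toFun g :=
    { toFun := fun d => ⟨g.1 • (d : Ω), (g.2 d).1 d.2⟩
      invFun := fun d => ⟨g.1⁻¹ • (d : Ω), (g.2 _).2 (by rw [smul_inv_smul]; exact d.2)⟩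
      left_inv := fun d => Subtype.ext (inv_smul_smul _ _)
      right_inv := fun d => Subtype.ext (smul_inv_smul _ _) }
  map_one' := by
    ext d
    exact one_smul G (d : Ω)
  map_mul' a b := by
    ext d
    exact mul_smul a.1 b.1 (d : Ω)

theorem pO_coe {U : Subgroup G} {ω : Ω} (g : stO U ω) (d : orbit U ω) : ((pO U ω g d : orbit U ω) : Ω) = g.1 • (d : Ω) := rfl

theorem le_stO (U : Subgroup G) (ω : Ω) : U ≤ stO U ω := by
  intro u hu d
  constructor
  · rintro ⟨v, rfl⟩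
    exact ⟨⟨u, hu⟩ * v, mul_smul _ _ _⟩
  · rintro ⟨v, hv⟩
    refine ⟨⟨u, hu⟩⁻¹ * v, ?_⟩
    change ((u⁻¹ * (v : G)) • ω) = d
    change (v : G) • ω = u • d at hv
    rw [mul_smul, hv, inv_smul_smul]

/-- an element normalising `U` with a fixed point in the orbit leaves the orbit invariant -/
theorem mem_stO_of_fix {U : Subgroup G} {ω : Ω} {b u : G} (hb : ∀ v ∈ U, b * v * b⁻¹ ∈ U) (hb' : ∀ v ∈ U, b⁻¹ * v * b ∈ U)
    (hu : u ∈ U) (h : b • u • ω = u • ω) : b ∈ stO U ω := by
  have h' : b⁻¹ • u • ω = u • ω := by rw [inv_smul_eq_iff, h]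
  intro d
  constructor
  · rintro ⟨v, rfl⟩
    refine ⟨⟨b * (v * u⁻¹) * b⁻¹ * u, U.mul_mem (hb _ (U.mul_mem v.2 (U.inv_mem hu))) hu⟩, ?_⟩
    change (b * (v * u⁻¹) * b⁻¹ * u) • ω = b • (v : G) • ω
    rw [mul_smul, mul_smul, h', mul_smul, mul_smul, inv_smul_smul]
  · rintro ⟨v, hv⟩
    change (v : G) • ω = b • d at hv
    refine ⟨⟨b⁻¹ * (v * u⁻¹) * b * u, U.mul_mem (hb' _ (U.mul_mem v.2 (U.inv_mem hu))) hu⟩, ?_⟩
    change (b⁻¹ * (v * u⁻¹) * b * u) • ω = d
    rw [mul_smul, mul_smul, h, mul_smul, mul_smul, inv_smul_smul, hv, inv_smul_smul]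

/-- **The generic point of an orbit.** -/
theorem generic_point {B U : Subgroup G} [Finite B] [Finite U] (hBc : ∀ a ∈ B, ∀ b ∈ B, a * b = b * a)
    (hBU : ∀ b ∈ B, ∀ u ∈ U, b * u * b⁻¹ ∈ U) (hUn : Group.IsNilpotent U) (hco : (Nat.card B).Coprime (Nat.card U))
    (ω : Ω) : ∃ u ∈ U, ∀ b ∈ B, b • u • ω = u • ω → ∀ v ∈ U, b • v • ω = v • ω := by
  classical
  by_contra hcon
  push Not at hcon
  have hBU' : ∀ b ∈ B, ∀ u ∈ U, b⁻¹ * u * b ∈ U := by
    intro b hb u hu
    have h1 := hBU b⁻¹ (B.inv_mem hb) u hu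
    rwa [inv_inv] at h1
  set H := stO U ω with hH
  set B' : Subgroup (Equiv.Perm (orbit U ω)) := (B.subgroupOf H).map (pO U ω) with hB'
  set U' : Subgroup (Equiv.Perm (orbit U ω)) := (U.subgroupOf H).map (pO U ω) with hU'
  have hUH : U ≤ H := le_stO U ω
  let eU : U.subgroupOf H ≃* U := subgroupOfEquivOfLe hUH
  have hUf : Finite (U.subgroupOf H) := Finite.of_equiv U eU.symm.toEquiv
  have hBf : Finite (B.subgroupOf H) := Finite.of_injective
    (fun b : B.subgroupOf H => (⟨b.1.1, mem_subgroupOf.1 b.2⟩ : B)) (fun a b h => by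
      apply Subtype.ext
      apply Subtype.ext
      exact congrArg (fun c : B => (c : G)) h)
  have hU'f : Finite U' := Finite.of_surjective _ ((pO U ω).subgroupMap_surjective (U.subgroupOf H))
  have hB'f : Finite B' := Finite.of_surjective _ ((pO U ω).subgroupMap_surjective (B.subgroupOf H))
  have hcU : Nat.card U' ∣ Nat.card U := by
    rw [← Nat.card_congr eU.toEquiv]
    exact card_map_dvd (U.subgroupOf H) (pO U ω)
  have hcB : Nat.card B' ∣ Nat.card B := by
    refine (card_map_dvd (B.subgroupOf H) (pO U ω)).trans ?_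
    have h1 : Nat.card (B.subgroupOf H) = Nat.card (B ⊓ H : Subgroup G) := by
      rw [← inf_subgroupOf_right]
      exact Nat.card_congr (subgroupOfEquivOfLe inf_le_right).toEquiv
    rw [h1]
    exact card_dvd_of_le inf_le_left
  have hU'n : Group.IsNilpotent U' := by
    have h1 : Group.IsNilpotent (U.subgroupOf H) := Group.nilpotent_of_mulEquiv eU.symm
    exact Group.nilpotent_of_surjective ((pO U ω).subgroupMap (U.subgroupOf H))
      ((pO U ω).subgroupMap_surjective (U.subgroupOf H))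
  -- the family
  let ι := {β : B' // (orderOf (β : Equiv.Perm (orbit U ω))).Prime}
  let x : ι → Equiv.Perm (orbit U ω) := fun i => i.1.1
  let r : ι → ℕ := fun i => orderOf (x i)
  let d0 : orbit U ω := ⟨ω, mem_orbit_self _⟩
  have key : ∃ i : ι, ∀ u ∈ U', x i • u • d0 = u • d0 := by
    refine cover_loc (r := r) (fun i => i.2) (fun i => pow_orderOf_eq_one _) ?_ ?_ ?_ (Or.inr ⟨hU'n, ?_⟩)
    · rintro ⟨⟨_, a, ha, rfl⟩, ha'⟩ ⟨⟨_, b, hb, rfl⟩, hb'⟩
      change pO U ω a * pO U ω b = pO U ω b * pO U ω a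
      rw [← map_mul, ← map_mul]
      congr 1
      exact Subtype.ext (hBc _ (mem_subgroupOf.1 ha) _ (mem_subgroupOf.1 hb))
    · rintro _ ⟨u, hu, rfl⟩
      obtain ⟨b, hb, hbu, v, hv, hbv⟩ := hcon u.1 (mem_subgroupOf.1 hu)
      have hbH : b ∈ H := mem_stO_of_fix (hBU b hb) (hBU' b hb) (mem_subgroupOf.1 hu) hbu
      set β := pO U ω ⟨b, hbH⟩ with hβ
      have hβB : β ∈ B' := ⟨⟨b, hbH⟩, mem_subgroupOf.2 hb, rfl⟩
      have hβ1 : β ≠ 1 := by
        intro h1
        apply hbv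
        have h2 := congrArg (fun f : Equiv.Perm (orbit U ω) => ((f ⟨v • ω, ⟨⟨v, hv⟩, rfl⟩⟩ : orbit U ω) : Ω)) h1
        exact h2
      have hβd : β (pO U ω u d0) = pO U ω u d0 := Subtype.ext hbu
      have hβo : orderOf β ≠ 1 := fun h1 => hβ1 (orderOf_eq_one_iff.1 h1)
      obtain ⟨s, hs, hsd⟩ := Nat.exists_prime_and_dvd hβo
      have hf : orderOf β ≠ 0 := by
        have h1 : orderOf (⟨β, hβB⟩ : B') ≠ 0 := (orderOf_pos _).ne'
        rwa [Subgroup.orderOf_mk] at h1
      have ho : orderOf (β ^ (orderOf β / s)) = s := by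
        rw [orderOf_pow_of_dvd (Nat.div_pos (Nat.le_of_dvd (Nat.pos_of_ne_zero hf) hsd) hs.pos).ne' (Nat.div_dvd_of_dvd hsd),
          Nat.div_div_self hsd hf]
      refine ⟨⟨⟨β ^ (orderOf β / s), B'.pow_mem hβB _⟩, by change (orderOf (β ^ (orderOf β / s))).Prime; rw [ho]; exact hs⟩, ?_⟩
      change (β ^ (orderOf β / s)) (pO U ω u d0) = pO U ω u d0
      have h3 : ∀ n : ℕ, (β ^ n) (pO U ω u d0) = pO U ω u d0 := by
        intro n
        induction n with
        | zero => rfl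
        | succ n ih => rw [pow_succ, Equiv.Perm.mul_apply, hβd, ih]
      exact h3 _
    · rintro ⟨⟨_, b, hb, rfl⟩, hb'⟩ _ ⟨u, hu, rfl⟩
      refine ⟨b * u * b⁻¹, ?_, by rw [map_mul, map_mul, map_inv]⟩
      exact mem_subgroupOf.2 (hBU _ (mem_subgroupOf.1 hb) _ (mem_subgroupOf.1 hu))
    · intro i
      refine Nat.Coprime.coprime_dvd_left ?_ (Nat.Coprime.coprime_dvd_right hcU hco)
      refine dvd_trans ?_ hcB
      have h1 : orderOf (i.1 : B') ∣ Nat.card B' := orderOf_dvd_natCard _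
      rwa [← Subgroup.orderOf_coe] at h1
  obtain ⟨i, hi⟩ := key
  have h1 : x i = 1 := by
    ext d
    obtain ⟨u, hu⟩ := d.2
    have h2 := hi (pO U ω ⟨u, hUH u.2⟩) ⟨_, mem_subgroupOf.2 u.2, rfl⟩
    have h3 : pO U ω ⟨u, hUH u.2⟩ • d0 = d := Subtype.ext hu
    rw [h3] at h2
    exact congrArg (fun d : orbit U ω => (d : Ω)) h2
  have h2 := i.2
  change (orderOf (x i)).Prime at h2
  rw [h1, orderOf_one] at h2
  exact Nat.not_prime_one h2

/-- **Rule (Y)**, for a set `X` of members. -/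
theorem ruleY_set {B U : Subgroup G} [Finite B] [Finite U] (hBc : ∀ a ∈ B, ∀ b ∈ B, a * b = b * a)
    (hBU : ∀ b ∈ B, ∀ u ∈ U, b * u * b⁻¹ ∈ U) (hUn : Group.IsNilpotent U) (hco : (Nat.card B).Coprime (Nat.card U))
    {X : Set G} (hX : ∀ b ∈ X, b ∈ B) {y : G} (hy : y ∈ B) (hyR : ∀ ω : Ω, (∀ b ∈ X, b • ω ≠ ω) → y • ω = ω) {ω : Ω}
    (hω : ∀ b ∈ X, b • ω ≠ ω) : cmm U y ≤ stabilizer G ω := by
  obtain ⟨u, hu, h⟩ := generic_point hBc hBU hUn hco ω
  refine comm_le fun v hv => h y hy (hyR _ fun b hb hbu => ?_) v hv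
  apply hω b hb
  have h1 := h b (hX b hb) hbu 1 U.one_mem
  simpa using h1

end generic

section orders

variable {G : Type*} [Group G]

/-- elements of orders prime to `n` in an abelian group -/
theorem coprime_orderOf_mul {a b : G} (hab : a * b = b * a) {n : ℕ} (ha : (orderOf a).Coprime n) (hb : (orderOf b).Coprime n) :
    (orderOf (a * b)).Coprime n := by
  have h1 : orderOf (a * b) ∣ orderOf a * orderOf b :=
    (Commute.orderOf_mul_dvd_lcm (show Commute a b from hab)).trans (Nat.lcm_dvd_mul _ _)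
  exact Nat.Coprime.coprime_dvd_left h1 (Nat.Coprime.mul_left ha hb)

/-- the closure of commuting elements of orders prime to `n` -/
theorem closure_coprime {S : Set G} (hc : ∀ a ∈ S, ∀ b ∈ S, a * b = b * a) {n : ℕ} (hn : ∀ a ∈ S, (orderOf a).Coprime n) :
    (∀ a ∈ closure S, ∀ b ∈ closure S, a * b = b * a) ∧ ∀ a ∈ closure S, (orderOf a).Coprime n := by
  have h1 : ∀ a ∈ closure S, ∀ b ∈ closure S, a * b = b * a := by
    have h2 : closure S ≤ centralizer S := by
      rw [closure_le]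
      intro a ha
      rw [SetLike.mem_coe, mem_centralizer_iff]
      exact fun b hb => hc b hb a ha
    have h3 : closure S ≤ centralizer (closure S : Set G) := by
      rw [closure_le]
      intro a ha
      rw [SetLike.mem_coe, mem_centralizer_iff]
      intro b hb
      exact (mem_centralizer_iff.1 (h2 hb) a ha).symm
    intro a ha b hb
    exact (mem_centralizer_iff.1 (h3 ha) b hb).symm
  refine ⟨h1, fun a ha => ?_⟩
  refine closure_induction (p := fun a _ => (orderOf a).Coprime n) (fun a ha => hn a ha) ?_ ?_ ?_ ha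
  · rw [orderOf_one]
    exact Nat.coprime_one_left n
  · intro a b ha hb ha' hb'
    exact coprime_orderOf_mul (h1 a ha b hb) ha' hb'
  · intro a _ ha
    rwa [orderOf_inv]

theorem card_coprime {B : Subgroup G} [Finite B] {n : ℕ} (hn : ∀ a ∈ B, (orderOf a).Coprime n) : (Nat.card B).Coprime n := by
  by_contra hcon
  obtain ⟨p, hp, hpB, hpn⟩ := Nat.Prime.not_coprime_iff_dvd.1 hcon
  have : Fact p.Prime := ⟨hp⟩
  obtain ⟨b, hb⟩ := exists_prime_orderOf_dvd_card' (G := B) p hpB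
  have h1 := hn b b.2
  rw [Subgroup.orderOf_coe, hb] at h1
  exact hp.one_lt.ne' ((Nat.coprime_self p).1 (Nat.Coprime.coprime_dvd_right hpn h1))

end orders

section rule

variable {G Ω ι : Type*} [Group G] [Finite G] [MulAction G Ω] {U : Subgroup G}

/-- **Rule (Y)**: members `x i`, an element `y` of any order prime to `|U|` fixing the points moved by all the members. -/
theorem ruleY {x : ι → G} {y : G} (hc : ∀ i j, x i * x j = x j * x i) (hyc : ∀ i, y * x i = x i * y)
    (hU : ∀ i, ∀ u ∈ U, x i * u * (x i)⁻¹ ∈ U) (hyU : ∀ u ∈ U, y * u * y⁻¹ ∈ U) (hUn : Group.IsNilpotent U)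
    (hx : ∀ i, (orderOf (x i)).Coprime (Nat.card U)) (hy : (orderOf y).Coprime (Nat.card U))
    (hyR : ∀ ω : Ω, (∀ i, x i • ω ≠ ω) → y • ω = ω) {ω : Ω} (hω : ∀ i, x i • ω ≠ ω) : cmm U y ≤ stabilizer G ω := by
  have h1 := closure_coprime (S := insert y (Set.range x)) (n := Nat.card U) (by
    rintro _ (rfl | ⟨i, rfl⟩) _ (rfl | ⟨j, rfl⟩)
    · rfl
    · exact hyc j
    · exact (hyc i).symm
    · exact hc i j) (by
    rintro _ (rfl | ⟨i, rfl⟩)
    · exact hy
    · exact hx i)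
  have hnorm : ∀ b ∈ closure (insert y (Set.range x)), ∀ u ∈ U, b * u * b⁻¹ ∈ U := by
    have h2 : closure (insert y (Set.range x)) ≤ normalizer (U : Set G) := by
      rw [closure_le]
      have key : ∀ g : G, (∀ u ∈ U, g * u * g⁻¹ ∈ U) → g ∈ normalizer (U : Set G) := by
        intro g hg
        have h3 : U.map (MulAut.conj g).toMonoidHom = U := by
          apply eq_of_le_of_card_ge
          · rintro _ ⟨u, hu, rfl⟩
            exact hg u hu
          · rw [Nat.card_congr (U.equivMapOfInjective _ (MulAut.conj g).injective).toEquiv.symm]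
        rw [mem_normalizer_iff]
        intro u
        refine ⟨hg u, fun hu => ?_⟩
        rw [← h3] at hu
        obtain ⟨v, hv, he⟩ := hu
        have h4 : v = u := by
          have h5 : g * v * g⁻¹ = g * u * g⁻¹ := he
          simpa using h5
        rwa [← h4]
      rintro _ (rfl | ⟨i, rfl⟩)
      · exact key _ hyU
      · exact key _ (hU i)
    intro b hb u hu
    exact (mem_normalizer_iff.1 (h2 hb) u).1 hu
  refine ruleY_set h1.1 hnorm hUn (card_coprime h1.2) (X := Set.range x) ?_ (subset_closure (Set.mem_insert _ _)) ?_ ?_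
  · rintro _ ⟨i, rfl⟩
    exact subset_closure (Set.mem_insert_of_mem _ ⟨i, rfl⟩)
  · intro ω h
    exact hyR ω fun i => h _ ⟨i, rfl⟩
  · rintro _ ⟨i, rfl⟩
    exact hω i

/-- **Rule (Y)** for the regular points of one element `s`. -/
theorem ruleY_reg {s y : G} (hyc : y * s = s * y) (hU : ∀ u ∈ U, s * u * s⁻¹ ∈ U) (hyU : ∀ u ∈ U, y * u * y⁻¹ ∈ U)
    (hUn : Group.IsNilpotent U) (hs : (orderOf s).Coprime (Nat.card U)) (hy : (orderOf y).Coprime (Nat.card U))
    (hyR : ∀ ω : Ω, (∀ b ∈ zpowers s, b • ω = ω → b = 1) → y • ω = ω) {ω : Ω}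
    (hω : ∀ b ∈ zpowers s, b • ω = ω → b = 1) : cmm U y ≤ stabilizer G ω := by
  have hpow : ∀ b ∈ zpowers s, ∃ k : ℕ, s ^ k = b := fun b hb =>
    (isOfFinOrder_of_finite s).mem_powers_iff_mem_zpowers.2 hb
  have hUk : ∀ k : ℕ, ∀ u ∈ U, s ^ k * u * (s ^ k)⁻¹ ∈ U := by
    intro k
    induction k with
    | zero => intro u hu; simpa using hu
    | succ k ih =>
      intro u hu
      have h1 := hU _ (ih u hu)
      have e : s * (s ^ k * u * (s ^ k)⁻¹) * s⁻¹ = s ^ (k + 1) * u * (s ^ (k + 1))⁻¹ := by rw [pow_succ']; group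
      rwa [e] at h1
  have hy' : ∀ k : ℕ, y * s ^ k = s ^ k * y := fun k => ((show Commute y s from hyc).pow_right k).eq
  refine ruleY (x := fun b : {b : G // b ∈ zpowers s ∧ b ≠ 1} => b.1) ?_ ?_ ?_ hyU hUn ?_ hy ?_ ?_
  · rintro ⟨a, ha, -⟩ ⟨b, hb, -⟩
    obtain ⟨k, rfl⟩ := hpow a ha
    obtain ⟨l, rfl⟩ := hpow b hb
    change s ^ k * s ^ l = s ^ l * s ^ k
    rw [← pow_add, ← pow_add, add_comm]
  · rintro ⟨a, ha, -⟩
    obtain ⟨k, rfl⟩ := hpow a ha
    exact hy' k
  · rintro ⟨a, ha, -⟩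
    obtain ⟨k, rfl⟩ := hpow a ha
    exact hUk k
  · rintro ⟨a, ha, -⟩
    obtain ⟨k, rfl⟩ := hpow a ha
    exact Nat.Coprime.coprime_dvd_left (orderOf_pow_dvd k) hs
  · intro ω h
    refine hyR ω fun b hb hbω => ?_
    by_contra hb1
    exact h ⟨b, hb, hb1⟩ hbω
  · rintro ⟨b, hb, hb1⟩ hbω
    exact hb1 (hω b hb hbω)

end rule

end Cfsg.Agent.H380.RG
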